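import Groth.Agent.Lib.Lambda.ChernChar
import Groth.Agent.Lib.Lambda.Eigen

/-!
# The Chern character is multiplicative
-/

universe v

open Finset
open scoped TensorProduct

namespace Groth.Agent.ChernMul23

open LambdaRing (LambdaOps gamma adamsOp PosStructure HasSplitting gammaFiltration)
open Groth.Agent.Lambda

variable {K : Type v} [CommRing K] [LambdaOps K] {P : PosStructure K}

/-- `x` has weight `m` rationally. -/
def Eig (m : ℕ) (x : K) : Prop :=
  ∀ k : ℕ, 1 ≤ k → (1 : ℚ) ⊗ₜ[ℤ] adamsOp k x = ((k : ℚ) ^ m) • ((1 : ℚ) ⊗ₜ[ℤ] x)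

theorem one_tmul_zsmul (c : ℤ) (x : K) : (1 : ℚ) ⊗ₜ[ℤ] ((c : K) * x) = (c : ℚ) • ((1 : ℚ) ⊗ₜ[ℤ] x) := by
  rw [← zsmul_eq_mul, TensorProduct.tmul_smul, Int.cast_smul_eq_zsmul]

/-- The coefficient of the alternating Adams combination on weight `m`. -/
def coef (a m : ℕ) : ℤ := ∑ k ∈ range (a + 1), (-1 : ℤ) ^ k * ((a + 1).choose (k + 1) : ℤ) * ((k + 1 : ℕ) : ℤ) ^ m

theorem coef_zero (a : ℕ) : coef a 0 = 1 := by
  have h := Int.alternating_sum_range_choose_of_ne (n := a + 1) (by omega)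
  rw [Finset.sum_range_succ' _ (a + 1)] at h
  simp only [pow_succ, mul_neg, mul_one, neg_mul, Finset.sum_neg_distrib, pow_zero, Nat.choose_zero_right,
    Nat.cast_one] at h
  simp only [coef, pow_zero, mul_one]
  linarith

theorem one_tmul_D (a m : ℕ) {x : K} (hx : Eig m x) :
    (1 : ℚ) ⊗ₜ[ℤ] D a x = (coef a m : ℚ) • ((1 : ℚ) ⊗ₜ[ℤ] x) := by
  rw [D, coef, TensorProduct.tmul_sum, Int.cast_sum, Finset.sum_smul]
  refine Finset.sum_congr rfl fun k _ => ?_
  rw [show ((-1 : K) ^ k * ((a + 1).choose (k + 1) : K)) =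
      (((-1 : ℤ) ^ k * ((a + 1).choose (k + 1) : ℤ) : ℤ) : K) by push_cast; rfl,
    one_tmul_zsmul, hx (k + 1) (by omega), smul_smul]
  push_cast
  rfl

theorem G_eq_zero_of_torsion {n : ℕ} {y : K} (hy : y ∈ gammaFiltration P n) (h : (1 : ℚ) ⊗ₜ[ℤ] y = 0) :
    G P n y = 0 := by
  obtain ⟨c, hc⟩ := (IsLocalizedModule.eq_zero_iff (nonZeroDivisors ℤ) (TensorProduct.mk ℤ ℚ K 1)).1 h
  rw [Submonoid.smul_def] at hc
  have h1 := G_zsmul c.1 hy
  rw [hc, G_eq_zero (zero_mem _)] at h1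
  exact (smul_eq_zero.1 h1.symm).resolve_left (Int.cast_ne_zero.2 (nonZeroDivisors.ne_zero c.2))

theorem D_zero (a : ℕ) : D a (0 : K) = 0 := by
  have h : ∀ k, adamsOp k (0 : K) = 0 := fun k => map_zero (AddMonoidHom.mk' (adamsOp k) (adamsOp_add k) : K →+ K)
  simp only [D, h, mul_zero, Finset.sum_const_zero]

variable (hK : HasSplitting K P)
include hK

theorem adamsOp_map_mul (k : ℕ) (hk : 1 ≤ k) (x y : K) : adamsOp k (x * y) = adamsOp k x * adamsOp k y := by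
  simp only [← adams_eq_adamsOp P hk]
  exact adams_mul hK k x y

theorem adamsOp_intCast (k : ℕ) (hk : 1 ≤ k) (c : ℤ) : adamsOp k (c : K) = (c : K) := by
  let f : K →+* K := RingHom.mk' ⟨⟨adamsOp k, adamsOp_apply_one (pos_lam_one P) k hk⟩, adamsOp_map_mul hK k hk⟩
    (adamsOp_add k)
  exact map_intCast f c

theorem eig_mul {m n : ℕ} {x y : K} (hx : Eig m x) (hy : Eig n y) : Eig (m + n) (x * y) := by
  intro k hk
  have h : ∀ a b : K, (1 : ℚ) ⊗ₜ[ℤ] (a * b) = ((1 : ℚ) ⊗ₜ[ℤ] a) * ((1 : ℚ) ⊗ₜ[ℤ] b) := fun a b => by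
    rw [Algebra.TensorProduct.tmul_mul_tmul, one_mul]
  rw [adamsOp_map_mul hK k hk, h, hx k hk, hy k hk, smul_mul_smul_comm, ← pow_add, ← h]

/-- `Φ` on a rational class of weight `m`. -/
theorem chClosed_of_eig (d : ℕ) (hd : gammaFiltration P (d + 1) = ⊥) {m : ℕ} {w : K}
    (hw : w ∈ gammaFiltration P m) (he : Eig m w) (h0 : m = 0 → w = (P.aug w : K)) :
    chClosed P d w = G P m w := by
  rcases m with _ | n
  · have h := h0 rfl
    rw [chClosed, ← h, sub_self]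
    simp only [D_zero]
    rw [Finset.sum_eq_zero fun a _ => by rw [G_eq_zero (zero_mem _), smul_zero], add_zero, map_intCast]
    conv_rhs => rw [h, ← zsmul_one (P.aug w), G_zsmul _ (mem_filtration_zero _), G_zero_one,
      Int.cast_smul_eq_zsmul, zsmul_one]
  · by_cases hn : n < d
    · rw [chClosed_of_mem hK d hw hn, Finset.sum_eq_zero, add_zero]
      intro a ha
      rw [Finset.mem_filter] at ha
      rw [G_eq_zero_of_torsion (D_mem (aug_eq_zero hK (by omega) hw) a) ?_, smul_zero]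
      rw [one_tmul_D a (n + 1) he]
      have hc : coef a (n + 1) = 0 := by
        rw [coef, alternating_choose_pow (a + 1) (n + 1) (by omega) (by omega), if_neg (by omega)]
      rw [hc, Int.cast_zero, zero_smul]
    · have : w = 0 := by
        have h := gammaFiltration_anti P (show d + 1 ≤ n + 1 by omega) hw
        rwa [hd, AddSubgroup.mem_bot] at h
      subst this
      rw [G_eq_zero (zero_mem _), chClosed]
      simp only [map_zero, Int.cast_zero, sub_zero]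
      rw [Finset.sum_eq_zero fun a _ => by
        rw [G_eq_zero_of_torsion (D_mem (map_zero P.aug) a) (by
          rw [D_zero, TensorProduct.tmul_zero]), smul_zero],
        add_zero]

/-- A weight vector is a multiple of the class of an element of the filtration. -/
theorem exists_rep (d : ℕ) (hd : gammaFiltration P (d + 1) = ⊥) {m : ℕ} {x : K} (hx : Eig m x) :
    ∃ (q : ℚ) (w : K), w ∈ gammaFiltration P m ∧ Eig m w ∧ (m = 0 → w = (P.aug w : K)) ∧
      (1 : ℚ) ⊗ₜ[ℤ] x = q • ((1 : ℚ) ⊗ₜ[ℤ] w) := by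
  rcases m with _ | n
  · let z := x - (P.aug x : K)
    have hz : Eig 0 z := fun k hk => by
      have e : adamsOp k z + (P.aug x : K) = adamsOp k x := by
        rw [← adamsOp_intCast hK k hk (P.aug x), ← adamsOp_add, sub_add_cancel]
      rw [eq_sub_of_add_eq e, TensorProduct.tmul_sub, hx k hk, pow_zero, one_smul, one_smul,
        ← TensorProduct.tmul_sub]
    have h := one_tmul_D d 0 hz
    have hD : D d z = 0 := by
      have := D_mem (aug_sub_aug (P := P) x) d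
      rwa [hd, AddSubgroup.mem_bot] at this
    rw [coef_zero, Int.cast_one, one_smul, hD, TensorProduct.tmul_zero] at h
    refine ⟨1, (P.aug x : K), mem_filtration_zero _, fun k hk => ?_, fun _ => by simp, ?_⟩
    · rw [adamsOp_intCast hK k hk, pow_zero, one_smul]
    · rw [one_smul, ← sub_eq_zero, ← TensorProduct.tmul_sub]
      exact h.symm
  · have haug : P.aug x = 0 := by
      let L : ℚ ⊗[ℤ] K →ₗ[ℚ] ℚ := (P.aug.toAddMonoidHom.toIntLinearMap).baseChange ℚ |> (fun g =>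
        (TensorProduct.AlgebraTensorModule.rid ℤ ℚ ℚ).toLinearMap.comp g)
      have hL : ∀ y : K, L ((1 : ℚ) ⊗ₜ[ℤ] y) = (P.aug y : ℚ) := fun y => by simp [L]
      have h := congrArg L (hx 2 (by omega))
      rw [map_smul, hL, hL, aug_adamsOp hK 2 (by omega), smul_eq_mul] at h
      have h2 : (1 : ℚ) < (2 : ℕ) ^ (n + 1) := one_lt_pow₀ (by norm_num) (Nat.succ_ne_zero n)
      have : (P.aug x : ℚ) = 0 := by nlinarith
      exact_mod_cast this
    have h := one_tmul_D n (n + 1) hx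
    rw [coef, alternating_choose_pow (n + 1) (n + 1) (by omega) le_rfl, if_pos rfl] at h
    have hc : (((-1 : ℤ) ^ (n + 1 - 1) * ((n + 1).factorial : ℤ) : ℤ) : ℚ) ≠ 0 := by
      push_cast; positivity
    refine ⟨(((-1 : ℤ) ^ (n + 1 - 1) * ((n + 1).factorial : ℤ) : ℤ) : ℚ)⁻¹, D n x, D_mem haug n,
      fun k hk => ?_, fun h => absurd h (Nat.succ_ne_zero n), ?_⟩
    · have e : adamsOp k (D n x) = D n (adamsOp k x) := by
        let f : K →+* K := RingHom.mk' ⟨⟨adamsOp k, adamsOp_apply_one (pos_lam_one P) k hk⟩, adamsOp_map_mul hK k hk⟩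
          (adamsOp_add k)
        change f (D n x) = _
        simp only [D, map_sum, map_mul, map_pow, map_neg, map_one, map_natCast]
        refine Finset.sum_congr rfl fun l _ => congrArg _ ?_
        change adamsOp k (adamsOp (l + 1) x) = adamsOp (l + 1) (adamsOp k x)
        rw [← adams_eq_adamsOp P hk, ← adams_eq_adamsOp P hk, ← adams_eq_adamsOp P (show 1 ≤ l + 1 by omega),
          ← adams_eq_adamsOp P (show 1 ≤ l + 1 by omega), adams_adams hK, adams_adams hK, mul_comm]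
      have hsm : Eig (n + 1) (adamsOp k x) := fun l hl => by
        have e2 : adamsOp l (adamsOp k x) = adamsOp (k * l) x := by
          rw [← adams_eq_adamsOp P hl, ← adams_eq_adamsOp P hk, adams_adams hK, mul_comm,
            adams_eq_adamsOp P (Nat.mul_pos hk hl)]
        rw [e2, hx (k * l) (Nat.mul_pos hk hl), hx k hk, smul_smul, Nat.cast_mul, mul_pow, mul_comm]
      rw [e, one_tmul_D n (n + 1) hsm, hx k hk, one_tmul_D n (n + 1) hx, smul_comm]
    · rw [h, inv_smul_smul₀ hc]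

/-- The Chern character is multiplicative. -/
theorem chClosed_mul (d : ℕ) (hd : gammaFiltration P (d + 1) = ⊥) (x y : K) :
    chClosed P d (x * y) = chClosed P d x * chClosed P d y := by
  classical
  let chHom : K →+ KGr.Gr P := AddMonoidHom.mk' (chClosed P d) (chClosed_add d)
  let Φ : ℚ ⊗[ℤ] K →ₗ[ℚ] KGr.Gr P := chHom.toIntLinearMap.liftBaseChange ℚ
  have hΦ : ∀ x : K, Φ ((1 : ℚ) ⊗ₜ[ℤ] x) = chClosed P d x := fun x => by simp [Φ, chHom]
  let Ψ : ℕ → ℚ ⊗[ℤ] K →ₗ[ℚ] ℚ ⊗[ℤ] K := fun k =>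
    ((AddMonoidHom.mk' (adamsOp k) (adamsOp_add k) : K →+ K).toIntLinearMap).baseChange ℚ
  have hΨ : ∀ k, 1 ≤ k → ∀ x : K, Ψ k ((1 : ℚ) ⊗ₜ[ℤ] x) = (1 : ℚ) ⊗ₜ[ℤ] LambdaRing.adams P k x := fun k hk x => by
    rw [adams_eq_adamsOp P hk]; rfl
  let E : ℕ → Submodule ℚ (ℚ ⊗[ℤ] K) := fun m => Module.End.eigenspace (Ψ 2) (((2 : ℕ) : ℚ) ^ m)
  have htop : (⨆ m ∈ range (d + 1), E m) = ⊤ :=
    iSup_eigen_eq_top (c := fun m => ((2 : ℕ) : ℚ) ^ m) (QF_anti K P) (QF_step hK 2 (by omega) (Ψ 2) (hΨ 2 (by omega)))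
      (QF_zero K P) (QF_bot d hd) (pow_injective_of_two_le le_rfl)
  have hrep : ∀ m, ∀ v ∈ E m, ∃ (q : ℚ) (w : K), w ∈ gammaFiltration P m ∧ Eig m w ∧
      (m = 0 → w = (P.aug w : K)) ∧ v = q • ((1 : ℚ) ⊗ₜ[ℤ] w) := by
    intro m v hv
    obtain ⟨⟨x, c⟩, hc⟩ := IsLocalizedModule.surj (nonZeroDivisors ℤ) (TensorProduct.mk ℤ ℚ K 1) v
    have hc0 : (c.1 : ℚ) ≠ 0 := Int.cast_ne_zero.2 (nonZeroDivisors.ne_zero c.2)
    have hcx : (1 : ℚ) ⊗ₜ[ℤ] x = (c.1 : ℚ) • v := by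
      rw [Int.cast_smul_eq_zsmul]; exact hc.symm
    have hx : Eig m x := fun k hk => by
      rcases (Nat.lt_or_eq_of_le hk) with h | h
      · have he : v ∈ Module.End.eigenspace (Ψ k) ((k : ℚ) ^ m) :=
          eigenspace_indep hK d hd 2 k le_rfl h (Ψ 2) (Ψ k) (hΨ 2 (by omega)) (hΨ k hk) m hv
        rw [Module.End.mem_eigenspace_iff] at he
        rw [← adams_eq_adamsOp P hk, ← hΨ k hk, hcx, map_smul, he, smul_comm]
      · subst h
        rw [adamsOp_one_op, Nat.cast_one, one_pow, one_smul]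
    obtain ⟨q, w, h1, h2, h3, h4⟩ := exists_rep hK d hd hx
    refine ⟨(c.1 : ℚ)⁻¹ * q, w, h1, h2, h3, ?_⟩
    rw [mul_smul, ← h4, hcx, inv_smul_smul₀ hc0]
  have hee : ∀ m n, ∀ v ∈ E m, ∀ v' ∈ E n, Φ (v * v') = Φ v * Φ v' := by
    intro m n v hv v' hv'
    obtain ⟨q, w, h1, h2, h3, rfl⟩ := hrep m v hv
    obtain ⟨q', w', h1', h2', h3', rfl⟩ := hrep n v' hv'
    have h3m : m + n = 0 → w * w' = ((P.aug (w * w') : ℤ) : K) := fun h => by
      obtain ⟨rfl, rfl⟩ : m = 0 ∧ n = 0 := by omega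
      rw [map_mul, Int.cast_mul, ← h3 rfl, ← h3' rfl]
    rw [smul_mul_smul_comm, map_smul, map_smul, map_smul, Algebra.TensorProduct.tmul_mul_tmul, one_mul, hΦ, hΦ, hΦ,
      chClosed_of_eig hK d hd h1 h2 h3, chClosed_of_eig hK d hd h1' h2' h3',
      chClosed_of_eig hK d hd (mul_mem_gammaFiltration (P := P) _ _ _ _ h1 h1') (eig_mul hK h2 h2') h3m,
      smul_mul_smul_comm, G_mul h1 h1']
  have key : ∀ v v' : ℚ ⊗[ℤ] K, Φ (v * v') = Φ v * Φ v' := by
    intro v v'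
    have hv : v ∈ (⨆ m ∈ range (d + 1), E m) := htop ▸ Submodule.mem_top
    have hv' : v' ∈ (⨆ m ∈ range (d + 1), E m) := htop ▸ Submodule.mem_top
    rw [Submodule.mem_iSup_finset_iff_exists_sum] at hv hv'
    obtain ⟨μ, rfl⟩ := hv
    obtain ⟨μ', rfl⟩ := hv'
    simp only [Finset.sum_mul, Finset.mul_sum, map_sum]
    exact Finset.sum_congr rfl fun i _ => Finset.sum_congr rfl fun j _ => hee _ _ _ (μ _).2 _ (μ' _).2
  have := key ((1 : ℚ) ⊗ₜ[ℤ] x) ((1 : ℚ) ⊗ₜ[ℤ] y)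
  rwa [Algebra.TensorProduct.tmul_mul_tmul, one_mul, hΦ, hΦ, hΦ] at this

end Groth.Agent.ChernMul23
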